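import Cfsg.Agent.H0.TCFi23a.D0
set_option maxRecDepth 100000
namespace H0.TCFi23a
open H0
noncomputable def tS : Tr := (.node (.node (.node (.node s0 s1) (.node s2 s3)) (.node (.node s4 s5) (.node s6 s7))) (.node (.node (.node s8 s9) (.node s10 s11)) (.node (.node s12 s13) (.node s14 s15))))
noncomputable def tJ : Tr := (.node (.node (.node (.node j0 j1) (.node j2 j3)) (.node (.node j4 j5) (.node j6 j7))) (.node (.node (.node j8 j9) (.node j10 j11)) (.node (.node j12 j13) (.node j14 j15))))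
noncomputable def tQ : Tr := (.node (.node (.node (.node q0 q1) (.node q2 q3)) (.node (.node q4 q5) (.node q6 q7))) (.node (.node (.node q8 q9) (.node q10 q11)) (.node (.node q12 q13) (.node q14 q15))))
noncomputable def tR : TC.WTr := (.node (.node r0 r1) (.node r2 r3))
def hl : List ℕ := [0, 1, 2, 3, 4, 5, 6, 8, 9]
def B : List (List ℕ) := [[0, 0], [1, 1], [2, 2], [3, 3], [4, 4], [5, 5], [6, 6], [7, 7], [8, 8], [9, 9], [0, 1, 0, 1, 0, 1], [0, 2, 0, 2], [0, 3, 0, 3], [0, 4, 0, 4], [0, 5, 0, 5], [0, 6, 0, 6], [0, 7, 0, 7], [0, 8, 0, 8], [0, 9, 0, 9], [1, 2, 1, 2, 1, 2], [1, 3, 1, 3], [1, 4, 1, 4], [1, 5, 1, 5], [1, 6, 1, 6], [1, 7, 1, 7], [1, 8, 1, 8], [1, 9, 1, 9], [2, 3, 2, 3, 2, 3], [2, 4, 2, 4], [2, 5, 2, 5], [2, 6, 2, 6], [2, 7, 2, 7], [2, 8, 2, 8], [2, 9, 2, 9], [3, 4, 3, 4, 3, 4], [3, 5, 3, 5], [3, 6, 3, 6], [3,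 7, 3, 7], [3, 8, 3, 8, 3, 8], [3, 9, 3, 9], [4, 5, 4, 5, 4, 5], [4, 6, 4, 6], [4, 7, 4, 7], [4, 8, 4, 8], [4, 9, 4, 9], [5, 6, 5, 6, 5, 6], [5, 7, 5, 7], [5, 8, 5, 8], [5, 9, 5, 9], [6, 7, 6, 7, 6, 7], [6, 8, 6, 8], [6, 9, 6, 9], [7, 8, 7, 8], [7, 9, 7, 9], [8, 9, 8, 9, 8, 9], [3, 2, 1, 3, 4, 5, 3, 8, 9, 3, 2, 1, 3, 4, 5, 3, 8, 9, 3, 2, 1, 3, 4, 5, 3, 8, 9, 3, 2, 1, 3, 4, 5, 3, 8, 9, 3, 2, 1, 3, 4, 5, 3, 8, 9, 3, 2, 1, 3, 4, 5, 3, 8, 9, 3, 2, 1, 3, 4, 5, 3, 8, 9, 3, 2, 1, 3, 4, 5, 3, 8, 9, 3, 2, 1, 3, 4, 5, 3, 8, 9, 3, 2, 1, 3, 4, 5, 3, 8, 9], [0, 1, 2, 3, 4, 5, 8, 0, 1, 2, 3, 4, 5, 8, 0, 1, 2, 3, 4, 5, 8, 0, 1, 2, 3, 4, 5, 8, 0, 1, 2, 3, 4, 5, 8, 0, 1, 2, 3, 4, 5, 8, 0, 1, 2, 3, 4, 5, 8, 0, 1, 2, 3, 4, 5, 8, 0, 1, 2, 3, 4, 5, 8]]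
def subs : List (List ℕ) := [[0], [1], [2], [3], [4], [5], [6], [8], [9]]
def ex : List (List ℕ) := []
def inv (x : ℕ) : ℕ := [0, 1, 2, 3, 4, 5, 6, 7, 8, 9].getD x 0
noncomputable def rS : ℕ → ℕ := rowOf tS (nat_lit 6) (nat_lit 63) (nat_lit 253) (nat_lit 14474011154664524427946373126085988481658748083205070504932198000989141204991)
noncomputable def rJ : ℕ → ℕ := rowOf tJ (nat_lit 6) (nat_lit 63) (nat_lit 84) (nat_lit 19342813113834066795298815)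
noncomputable def C : TC.Cfg where
  S := look rS (nat_lit 23) (nat_lit 8388607)
  J := look rJ (nat_lit 7) (nat_lit 127)
  Q := lookQ tQ (nat_lit 6) (nat_lit 23) (nat_lit 8388607)
  R := tR.get
  hl := fun x => hl.contains x
  n := (nat_lit 31671)
  M := (nat_lit 44845)
  top := (nat_lit 7354580)
  nl := (nat_lit 10)
  need := (nat_lit 10)
  nr := (nat_lit 16)
end H0.TCFi23a
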