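import Cfsg.Agent.H0.TCFi23a.D
set_option maxRecDepth 100000
namespace H0.TCFi23a
open H0
theorem k0 : TC.chkRange C 0 56 = true := by decide +kernel
theorem k1 : TC.chkRange C 56 56 = true := by decide +kernel
theorem k2 : TC.chkRange C 112 56 = true := by decide +kernel
theorem k3 : TC.chkRange C 168 56 = true := by decide +kernel
theorem k4 : TC.chkRange C 224 56 = true := by decide +kernel
theorem k5 : TC.chkRange C 280 56 = true := by decide +kernel
end H0.TCFi23a
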